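import Groth.Agent.VBPnLib.Pn
import Groth.Agent.PnCohLib.HypSec
import Groth.Agent.PnCohLib.Hypersurface
import Groth.Agent.ProjFormLib.Proj

/-! Sections of the twists of a bundle belonging to a codimension two subscheme. -/

set_option autoImplicit false
set_option linter.style.haveILetI false
set_option linter.unusedSectionVars false
universe u

noncomputable section

open CategoryTheory CategoryTheory.Limits AlgebraicGeometry TopologicalSpace Opposite

namespace SerreBdl

variable {k : Type u} [Field k] {n : ℕ}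

local notation "P" => CohB1.ProjSpace n k
local notation "O'" => Twist.twistProjSpace n k

theorem subsingleton_twist_iff (hn : 1 ≤ n) (t : ℤ) : Subsingleton (Coh.HH P (O' t) 0) ↔ t < 0 := by
  constructor
  · intro h
    by_contra ht
    have h1 := PnCohLib.finrank_zero_twist (N := n) k hn t
    rw [Module.finrank_zero_of_subsingleton] at h1
    exact (Nat.choose_pos (show n ≤ (t + n).toNat by omega)).ne h1
  · intro h
    exact PnCohLib.subsingleton_HH_twist t 0 (by omega) (by omega)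

theorem h0_iff (hn : 2 ≤ n) (S : ShortComplex (CohB1.ProjSpace n k).Modules) (hS : S.ShortExact)
    (h₁ : S.X₁ ≅ Coh.structureModule (CohB1.ProjSpace n k)) {J : (CohB1.ProjSpace n k).Modules} (c : ℤ)
    (h₃ : S.X₃ ≅ CohB1.tensorMod J (O' c)) (t : ℤ) :
    Subsingleton (Coh.HH P (CohB1.tensorMod S.X₂ (O' t)) 0) ↔
      t < 0 ∧ Subsingleton (Coh.HH P (CohB1.tensorMod J (O' (c + t))) 0) := by
  let L := O' t
  let S' := S.map (ProjFormLib.tF L)
  have hL : FlatMod.IsFinLocFree L := CurveVBLib.isFinLocFree_of_rank (VBPnLib.twist_rank k n t)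
  have hS' : S'.ShortExact := ProjFormLib.shortExact_tens hL hS
  let e₁ : S'.X₁ ≅ O' t := HilbPolyLib.congrRight L h₁ ≪≫ HilbPolyLib.swapIso _ _ ≪≫ HilbPolyLib.unitLeft _
  let e₂ : S'.X₂ ≅ CohB1.tensorMod S.X₂ (O' t) := HilbPolyLib.swapIso _ _
  obtain ⟨a⟩ := PicPnLib.twist_add n k c t
  let e₃ : S'.X₃ ≅ CohB1.tensorMod J (O' (c + t)) :=
    HilbPolyLib.congrRight L h₃ ≪≫ HilbPolyLib.swapIso _ _ ≪≫ HilbPolyLib.assocIso _ _ _ ≪≫ HilbPolyLib.congrRight J a
  have hone : Subsingleton (Coh.HH P S'.X₁ 1) :=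
    SerreVanLib.subsingleton_HH_of_iso e₁ 1 (PnCohLib.subsingleton_HH_twist t 1 (by omega) (by omega))
  constructor
  · intro h
    haveI : Subsingleton (Coh.HH P S'.X₂ 0) := SerreVanLib.subsingleton_HH_of_iso e₂ 0 h
    refine ⟨(subsingleton_twist_iff (by omega) t).1 (SerreVanLib.subsingleton_HH_of_iso e₁.symm 0
      (CurvLib.injective₀ (k := k) hS').subsingleton), SerreVanLib.subsingleton_HH_of_iso e₃.symm 0 ?_⟩
    have hs : Function.Surjective (CurvLib.hMap (k := k) S'.g 0) := fun y => by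
      refine LinearMap.mem_range.1 ?_
      rw [CurvLib.exact₃ hS' 0, LinearMap.mem_ker]
      exact Subsingleton.elim _ _
    exact hs.subsingleton
  · rintro ⟨ht, h⟩
    refine SerreVanLib.subsingleton_HH_of_iso e₂.symm 0 ?_
    haveI : Subsingleton (Coh.HH P S'.X₁ 0) :=
      SerreVanLib.subsingleton_HH_of_iso e₁ 0 ((subsingleton_twist_iff (by omega) t).2 ht)
    exact (PnCohLib.surjective_of_X₃ (k := k) hS' (SerreVanLib.subsingleton_HH_of_iso e₃ 0 h)).subsingleton

theorem h0_mono {r : ℕ} {E : (CohB1.ProjSpace n k).Modules} (hE : FlatMod.IsFinLocFreeOfRank r E) {t u : ℤ}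
    (htu : u ≤ t) (h : Subsingleton (Coh.HH P (CohB1.tensorMod E (O' t)) 0)) :
    Subsingleton (Coh.HH P (CohB1.tensorMod E (O' u)) 0) := by
  by_contra hne
  obtain ⟨s, hs⟩ := VBPnLib.exists_hom_of_h0 k n E u hne
  exact hs (VBPnLib.hom_eq_zero_of_le k n hE t h (by omega) s)

/-- No sections in a normalised twist, in terms of the subscheme. -/
theorem main (hn : 2 ≤ n) (S : ShortComplex (CohB1.ProjSpace n k).Modules) (hS : S.ShortExact)
    (hE : FlatMod.IsFinLocFreeOfRank 2 S.X₂)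
    (h₁ : S.X₁ ≅ Coh.structureModule (CohB1.ProjSpace n k)) {J : (CohB1.ProjSpace n k).Modules} (c : ℤ)
    (h₃ : S.X₃ ≅ CohB1.tensorMod J (O' c)) (t : ℤ) :
    Subsingleton (Coh.HH P (CohB1.tensorMod S.X₂ (O' t)) 0) ↔
      t < 0 ∧ ∀ d : ℤ, d ≤ c + t → Subsingleton (Coh.HH P (CohB1.tensorMod J (O' d)) 0) := by
  refine ⟨fun h => ⟨((h0_iff hn S hS h₁ c h₃ t).1 h).1, fun d hd => ?_⟩,
    fun ⟨ht, h⟩ => (h0_iff hn S hS h₁ c h₃ t).2 ⟨ht, h _ le_rfl⟩⟩
  have h' := ((h0_iff hn S hS h₁ c h₃ (d - c)).1 (h0_mono hE (by omega) h)).2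
  rwa [show c + (d - c) = d by ring] at h'

end SerreBdl
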